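import Mathlib

/-! The module of differentials of a commutative Hopf algebra is extended from `K`. -/

set_option autoImplicit false
open TensorProduct WithConv Coalgebra

namespace HopfKaehler

universe u v w

variable (K : Type u) [CommRing K] (B : Type v) [CommRing B] [HopfAlgebra K B]

/-- The subspace cutting out the cotangent space at the identity. -/
def W : Submodule K B :=
  Submodule.span K (Set.range fun uv : B × B =>
    uv.1 * uv.2 - counit (R := K) uv.1 • uv.2 - counit (R := K) uv.2 • uv.1)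

/-- The cotangent space at the identity. -/
abbrev V : Type v := B ⧸ W K B

theorem mkQ_mul (a b : B) :
    (W K B).mkQ (a * b) =
      counit (R := K) a • (W K B).mkQ b + counit (R := K) b • (W K B).mkQ a := by
  rw [← map_smul, ← map_smul, ← map_add, Submodule.mkQ_apply, Submodule.mkQ_apply,
    Submodule.Quotient.eq]
  refine Submodule.subset_span ⟨(a, b), ?_⟩
  simp only
  abel

variable {M : Type w} [AddCommGroup M] [Module B M] [Module Bᵐᵒᵖ M] [IsCentralScalar B M]
  [Module K M] [IsScalarTower K B M]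

/-- The inclusion as a point of the group. -/
noncomputable def ι : WithConv (B →ₐ[K] TrivSqZeroExt B M) :=
  toConv ((TrivSqZeroExt.inlAlgHom B B M).restrictScalars K)

/-- The inverse of the inclusion. -/
noncomputable def ιS : WithConv (B →ₐ[K] TrivSqZeroExt B M) :=
  toConv (((TrivSqZeroExt.inlAlgHom B B M).restrictScalars K).comp (HopfAlgebra.antipodeAlgHom K B))

theorem id_antipode_cancel :
    toConv (AlgHom.id K B) * toConv (HopfAlgebra.antipodeAlgHom K B) = 1 := by
  apply WithConv.ofConv_injective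
  apply AlgHom.toLinearMap_injective
  apply WithConv.toConv_injective
  rw [AlgHom.toLinearMap_convMul, AlgHom.toLinearMap_convOne]
  simp [LinearMap.id_mul_antipode]

theorem comp_one {C D : Type*} [CommRing C] [CommRing D] [Algebra K C] [Algebra K D]
    (h : C →ₐ[K] D) :
    h.comp (1 : WithConv (B →ₐ[K] C)).ofConv = (1 : WithConv (B →ₐ[K] D)).ofConv :=
  AlgHom.ext fun x => h.commutes (counit x)

theorem ιS_mul_ι : ιS K B * ι K B = (1 : WithConv (B →ₐ[K] TrivSqZeroExt B M)) := by
  have h := congrArg (fun f : WithConv (B →ₐ[K] B) =>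
    toConv (((TrivSqZeroExt.inlAlgHom B B M).restrictScalars K).comp f.ofConv))
      (AlgHom.antipode_id_cancel (R := K) (A := B))
  simp only [AlgHom.comp_convMul_distrib, comp_one] at h
  exact h

theorem ι_mul_ιS : ι K B * ιS K B = (1 : WithConv (B →ₐ[K] TrivSqZeroExt B M)) := by
  have h := congrArg (fun f : WithConv (B →ₐ[K] B) =>
    toConv (((TrivSqZeroExt.inlAlgHom B B M).restrictScalars K).comp f.ofConv))
      (id_antipode_cancel K B)
  simp only [AlgHom.comp_convMul_distrib, comp_one] at h
  exact h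

/-- A point of the form `(id, D)`. -/
noncomputable def ofDer (D : Derivation K B M) : WithConv (B →ₐ[K] TrivSqZeroExt B M) :=
  toConv
  { toFun := fun b => TrivSqZeroExt.inl b + TrivSqZeroExt.inr (D b)
    map_one' := by ext <;> simp
    map_mul' := fun a b => by
      ext <;> simp [op_smul_eq_smul, add_comm]
    map_zero' := by ext <;> simp
    map_add' := fun a b => by ext <;> simp
    commutes' := fun c => by
      ext <;> simp [TrivSqZeroExt.algebraMap_eq_inl'] }

theorem fst_apply (x : TrivSqZeroExt B M) :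
    (TrivSqZeroExt.fstHom B B M).restrictScalars K x = x.fst := rfl

theorem fst_ι_inv_mul {u : WithConv (B →ₐ[K] TrivSqZeroExt B M)}
    (hu : ∀ b, TrivSqZeroExt.fst (u.ofConv b) = b) (b : B) :
    TrivSqZeroExt.fst (((ιS K B) * u).ofConv b) = algebraMap K B (counit b) := by
  have h : ((TrivSqZeroExt.fstHom B B M).restrictScalars K).comp ((ιS K B) * u).ofConv =
      (1 : WithConv (B →ₐ[K] B)).ofConv := by
    rw [AlgHom.comp_convMul_distrib, ← AlgHom.antipode_id_cancel]
    congr 1
    congr 1
    exact congrArg toConv (AlgHom.ext fun x => hu x)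
  have := DFunLike.congr_fun h b
  exact this

/-- The invariant part of a point. -/
noncomputable def inv' (u : WithConv (B →ₐ[K] TrivSqZeroExt B M)) : B →ₗ[K] M :=
  ((TrivSqZeroExt.sndHom B M).restrictScalars K) ∘ₗ ((ιS K B) * u).ofConv.toLinearMap

theorem W_le_ker {u : WithConv (B →ₐ[K] TrivSqZeroExt B M)}
    (hu : ∀ b, TrivSqZeroExt.fst (u.ofConv b) = b) : W K B ≤ LinearMap.ker (inv' K B u) := by
  refine Submodule.span_le.2 ?_
  rintro _ ⟨⟨a, b⟩, rfl⟩
  rw [SetLike.mem_coe, LinearMap.mem_ker, map_sub, map_sub, map_smul, map_smul]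
  show TrivSqZeroExt.snd (((ιS K B) * u).ofConv (a * b)) -
    counit (R := K) a • TrivSqZeroExt.snd (((ιS K B) * u).ofConv b) -
    counit (R := K) b • TrivSqZeroExt.snd (((ιS K B) * u).ofConv a) = 0
  rw [map_mul, TrivSqZeroExt.snd_mul, fst_ι_inv_mul K B hu, fst_ι_inv_mul K B hu, op_smul_eq_smul,
    algebraMap_smul, algebraMap_smul]
  abel

variable {N : Type*} [AddCommGroup N] [Module B N] [Module Bᵐᵒᵖ N] [IsCentralScalar B N]
  [Module K N] [IsScalarTower K B N]

/-- Functoriality in the module. -/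
noncomputable def push (h : M →ₗ[B] N) : TrivSqZeroExt B M →ₐ[K] TrivSqZeroExt B N :=
  (TrivSqZeroExt.map h).restrictScalars K

theorem push_inl_add_inr (h : M →ₗ[B] N) (b : B) (m : M) :
    push K B h (TrivSqZeroExt.inl b + TrivSqZeroExt.inr m) =
      TrivSqZeroExt.inl b + TrivSqZeroExt.inr (h m) := by
  simp [push]

theorem push_ι_inv_mul (h : M →ₗ[B] N) (u : WithConv (B →ₐ[K] TrivSqZeroExt B M)) :
    toConv ((push K B h).comp ((ιS K B) * u).ofConv) =
      (ιS K B) * toConv ((push K B h).comp u.ofConv) := by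
  rw [AlgHom.comp_convMul_distrib, WithConv.toConv_ofConv]
  congr 1
  exact WithConv.ext (AlgHom.ext fun x => TrivSqZeroExt.map_inl h _)

theorem push_ι_mul (h : M →ₗ[B] N) (f : WithConv (B →ₐ[K] TrivSqZeroExt B M)) :
    toConv ((push K B h).comp (ι K B * f).ofConv) =
      ι K B * toConv ((push K B h).comp f.ofConv) := by
  rw [AlgHom.comp_convMul_distrib, WithConv.toConv_ofConv]
  congr 1
  exact WithConv.ext (AlgHom.ext fun x => TrivSqZeroExt.map_inl h _)

end HopfKaehler

namespace HopfKaehler

universe u' v'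

variable (K : Type u') [CommRing K] (B : Type v') [CommRing B] [HopfAlgebra K B]

theorem nonempty_equiv : Nonempty (B ⊗[K] V K B ≃ₗ[B] Ω[B⁄K]) := by
  letI : Module Bᵐᵒᵖ (Ω[B⁄K]) :=
    Module.compHom _ ((RingHom.id B).fromOpposite mul_comm)
  haveI : IsCentralScalar B (Ω[B⁄K]) := ⟨fun _ _ => rfl⟩
  -- the invariant derivative on differentials
  let u₁ : WithConv (B →ₐ[K] TrivSqZeroExt B (Ω[B⁄K])) := ofDer K B (KaehlerDifferential.D K B)
  have hu₁ : ∀ b, TrivSqZeroExt.fst (u₁.ofConv b) = b := fun b => by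
    show TrivSqZeroExt.fst (TrivSqZeroExt.inl b + TrivSqZeroExt.inr (KaehlerDifferential.D K B b)) = b
    simp
  let T : B ⊗[K] V K B →ₗ[B] Ω[B⁄K] :=
    ((W K B).liftQ (inv' K B u₁) (W_le_ker K B hu₁)).liftBaseChange B
  -- the universal invariant derivation
  have hπ : (W K B).mkQ (1 : B) = 0 := by
    have := mkQ_mul K B 1 1
    rw [mul_one, Bialgebra.counit_one, one_smul] at this
    simpa using this
  let f₀ : WithConv (B →ₐ[K] TrivSqZeroExt B (B ⊗[K] V K B)) := toConv
    { toFun := fun b => TrivSqZeroExt.inl (algebraMap K B (counit b)) +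
        TrivSqZeroExt.inr ((1 : B) ⊗ₜ[K] (W K B).mkQ b)
      map_one' := by
        show TrivSqZeroExt.inl _ + TrivSqZeroExt.inr _ = _
        rw [hπ, tmul_zero]
        ext <;> simp
      map_mul' := fun a b => by
        rw [mkQ_mul]
        ext <;> simp [tmul_add, op_smul_eq_smul, algebraMap_smul, add_comm]
      map_zero' := by ext <;> simp
      map_add' := fun a b => by ext <;> simp [tmul_add]
      commutes' := fun c => by
        rw [Bialgebra.counit_algebraMap, Algebra.algebraMap_eq_smul_one c (A := B), map_smul, hπ,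
          smul_zero, tmul_zero, TrivSqZeroExt.algebraMap_eq_inl']
        ext <;> simp [Algebra.algebraMap_eq_smul_one] }
  let u₀ : WithConv (B →ₐ[K] TrivSqZeroExt B (B ⊗[K] V K B)) := ι K B * f₀
  have hu₀ : ∀ b, TrivSqZeroExt.fst (u₀.ofConv b) = b := fun b => by
    have h : ((TrivSqZeroExt.fstHom B B (B ⊗[K] V K B)).restrictScalars K).comp u₀.ofConv =
        (toConv (AlgHom.id K B) * 1 : WithConv (B →ₐ[K] B)).ofConv := by
      rw [AlgHom.comp_convMul_distrib]
      congr 1
      congr 1
      refine WithConv.ext (AlgHom.ext fun x => ?_)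
      show TrivSqZeroExt.fst (TrivSqZeroExt.inl (algebraMap K B (counit x)) +
        (TrivSqZeroExt.inr _ : TrivSqZeroExt B (B ⊗[K] V K B))) = _
      simp
    rw [mul_one] at h
    exact DFunLike.congr_fun h b
  let D₀ : Derivation K B (B ⊗[K] V K B) := Derivation.mk'
    ((TrivSqZeroExt.sndHom B (B ⊗[K] V K B)).restrictScalars K ∘ₗ u₀.ofConv.toLinearMap)
    fun a b => by
      show TrivSqZeroExt.snd (u₀.ofConv (a * b)) =
        a • TrivSqZeroExt.snd (u₀.ofConv b) + b • TrivSqZeroExt.snd (u₀.ofConv a)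
      rw [map_mul, TrivSqZeroExt.snd_mul, hu₀, hu₀, op_smul_eq_smul]
  let U : Ω[B⁄K] →ₗ[B] B ⊗[K] V K B := D₀.liftKaehlerDifferential
  have hf₁ : ∀ b, ((ιS K B) * u₁).ofConv b = TrivSqZeroExt.inl (algebraMap K B (counit b)) +
      TrivSqZeroExt.inr (inv' K B u₁ b) := fun b => by
    refine TrivSqZeroExt.ext ?_ ?_
    · rw [fst_ι_inv_mul K B hu₁]
      simp
    · simp [inv']
  -- `U` sends the universal point to `u₀`
  have hU : toConv ((push K B U).comp u₁.ofConv) = u₀ := by
    refine WithConv.ext (AlgHom.ext fun b => ?_)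
    show push K B U (TrivSqZeroExt.inl b + TrivSqZeroExt.inr (KaehlerDifferential.D K B b)) = _
    rw [push_inl_add_inr, Derivation.liftKaehlerDifferential_comp_D]
    refine TrivSqZeroExt.ext ?_ ?_
    · rw [hu₀]
      simp
    · simp [D₀]
  have h1 : ∀ v : B, U (inv' K B u₁ v) = (1 : B) ⊗ₜ[K] (W K B).mkQ v := fun v => by
    have h := push_ι_inv_mul K B U u₁
    rw [hU] at h
    change _ = ιS K B * (ι K B * f₀) at h
    have h0 : ιS K B * (ι K B * f₀) = f₀ :=
      (mul_assoc (ιS K B) (ι K B) f₀).symm.trans ((congrArg (· * f₀) (ιS_mul_ι K B)).trans (one_mul f₀))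
    have h := h.trans h0
    have h' := congrArg TrivSqZeroExt.snd (DFunLike.congr_fun (congrArg WithConv.ofConv h) v)
    change TrivSqZeroExt.snd (push K B U (((ιS K B) * u₁).ofConv v)) = _ at h'
    rw [hf₁, push_inl_add_inr] at h'
    simpa [f₀] using h'
  have hTf : toConv ((push K B T).comp f₀.ofConv) = (ιS K B) * u₁ := by
    refine WithConv.ext (AlgHom.ext fun b => ?_)
    show push K B T (TrivSqZeroExt.inl _ + TrivSqZeroExt.inr _) = _
    rw [push_inl_add_inr, hf₁]
    simp [T]
  have h2 : ∀ b : B, T (D₀ b) = KaehlerDifferential.D K B b := fun b => by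
    have h := push_ι_mul K B T f₀
    rw [hTf] at h
    replace h := h.trans ((mul_assoc (ι K B) (ιS K B) u₁).symm.trans
      ((congrArg (· * u₁) (ι_mul_ιS K B)).trans (one_mul u₁)))
    have h' := congrArg TrivSqZeroExt.snd (DFunLike.congr_fun (congrArg WithConv.ofConv h) b)
    change TrivSqZeroExt.snd (push K B T (u₀.ofConv b)) =
      TrivSqZeroExt.snd (TrivSqZeroExt.inl b + TrivSqZeroExt.inr (KaehlerDifferential.D K B b)) at h'
    simpa [push, D₀] using h'
  refine ⟨LinearEquiv.ofLinear T U ?_ ?_⟩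
  · refine Derivation.liftKaehlerDifferential_unique _ _ (Derivation.ext fun b => ?_)
    show T (U (KaehlerDifferential.D K B b)) = _
    rw [Derivation.liftKaehlerDifferential_comp_D, h2]
    rfl
  · refine LinearMap.ext fun x => ?_
    induction x using TensorProduct.induction_on with
    | zero => simp
    | add x y hx hy => simp only [map_add, hx, hy]
    | tmul a v =>
      obtain ⟨v, rfl⟩ := (W K B).mkQ_surjective v
      rw [LinearMap.comp_apply, LinearMap.liftBaseChange_tmul, map_smul, Submodule.mkQ_apply,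
        Submodule.liftQ_apply, h1, LinearMap.id_apply, TensorProduct.smul_tmul', smul_eq_mul, mul_one]
      rfl

end HopfKaehler
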